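import Cfsg.Agent.Lib.Mult.Glue
import Cfsg.Agent.Lib.Grp.G24.Main

set_option autoImplicit false
set_option maxRecDepth 100000
set_option Elab.async false

namespace Cfsg.Agent.Mult.G24

open Cfsg.Agent.CG Cfsg.Agent.CG.G24

noncomputable def p5T : ℕ := 0x802802000000402000000000
noncomputable def p5q1 : ℕ := 0x80100801
noncomputable def p5q2 : ℕ := 0xa942529495
noncomputable def p5NF : ℕ := 0x100000000010000000000000000000000001000000000000000000000000000000
noncomputable def p5gv : ℕ := 0x100002004000040000c00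
noncomputable def p5av : ℕ := 0x0
noncomputable def p5mu : ℕ := 0x58018000108000000000
noncomputable def p5om : ℕ := 0x0
noncomputable def p5tm : ℕ := 0x7ffa3f8fff
noncomputable def p5par : ℕ := 0x874
noncomputable def p5z : Desc := ⟨0,0,0,0,[],[]⟩
noncomputable def p5ds : Tr Desc := (.node (.node (.node (.node (.leaf p5z) (.leaf ⟨0,2,0,0,[],[]⟩)) (.node (.leaf ⟨0,0,0,0,[],[]⟩) (.leaf p5z))) (.node (.node (.leaf p5z) (.leaf p5z)) (.leaf p5z))) (.node (.node (.node (.leaf p5z) (.leaf p5z)) (.leaf p5z)) (.node (.node (.leaf p5z) (.leaf p5z)) (.leaf ⟨0,1,0,0,[],[]⟩))))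
noncomputable def p5rd : Tr Desc := (.node (.node (.leaf ⟨2,0,0,0,[1,0],[0,1]⟩) (.leaf ⟨2,0,0,0,[1,1,1,1,1],[]⟩)) (.leaf ⟨2,1,0,0,[0,0,0,0,0],[]⟩))
noncomputable def D5 : Dat where
  p := 5
  q := 5
  n1 := 3
  b := 2
  fl := 5
  ew := 12
  T := p5T
  w := 11
  fuel := 21
  nf := 2
  cm := 2
  q1 := fun x => look 0x3ff p5q1 (Nat.mul 10 x)
  q2 := fun x => look 0x3ff p5q2 (Nat.mul 10 x)
  NV := 13
  d := 3
  w2 := 10
  NF := fun x => look 0x3fffffff p5NF (Nat.mul 30 x)
  tm := fun x => look 0x7 p5tm (Nat.mul 3 x)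
  TM := 7
  par := fun x => look 0xf p5par (Nat.mul 4 x)
  ds := fun x => p5ds.get x
  r := 3
  s0 := 0
  gv := fun x => look 0x3fffffff p5gv (Nat.mul 30 x)
  rd := fun x => p5rd.get x
  av := fun x => look 0x3fffffff p5av (Nat.mul 30 x)
  mw := 3
  mu := fun x => look 0x1ff p5mu (Nat.mul 9 x)
  ms := []
  om := fun x => look 0x1ff p5om (Nat.mul 9 x)
noncomputable def p5w1 : List (List ℕ) := [[51,1,0,17,17,27,34,39,42],
  [4,49,2,19,27,39,37,41],
  [0,21,0,42,17,25,35,39,42,41],
  [0,1,47,17,30,37,33,39,42]]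
noncomputable def p5w2 : List (List ℕ) := [[1],
  [2]]
noncomputable def p5L0c : ℕ := 0xa34060f0bd408470d7f0
noncomputable def p5L0p : ℕ := 0x30002000100000000
noncomputable def p5L0l : ℕ := 0x20002000200020000
noncomputable def p5L0q : ℕ := 0x10002000400030000
noncomputable def p5L1c : ℕ := 0xf7b0d970e1a0abb00720
noncomputable def p5L1p : ℕ := 0x30002000100000000
noncomputable def p5L1l : ℕ := 0x10001000100010000
noncomputable def p5L1q : ℕ := 0x1000000000002000400000003
noncomputable def p5L : List Lvl := [mkLvl 55280 [2] 5 16 p5L0c p5L0p p5L0l 5 p5L0q,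
  mkLvl 1824 [1] 5 16 p5L1c p5L1p p5L1l 7 p5L1q]

theorem p5c0 : okcb 4095 16 (bases p5L) = true := by decide +kernel
theorem p5c1 : D5.chkNum 0 2 251596800 p5w2 p5L = true := by decide +kernel
theorem p5c2 : headAll (appW (appW app p5w1) p5w2) p5L [] = true := by decide +kernel
theorem p5c3 : allL (fun l => l.chk (appW (appW app p5w1) p5w2) 1 (l.N - 1)) p5L = true := by decide +kernel
theorem p5c4 : D5.chkPc (appW app p5w1) bs 0 9 = true := by decide +kernel
theorem p5c5 : D5.chkFus (appW app p5w1) bs 0 4 = true := by decide +kernel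
theorem p5c6 : D5.chkHead = true := by decide +kernel
theorem p5c7 : D5.chkVars 0 13 = true := by decide +kernel
theorem p5c8 : D5.chkRhos 0 3 = true := by decide +kernel
theorem p5c9 : D5.chkEnts 0 9 = true := by decide +kernel

theorem pb5 : PB PG 5 [] :=
  Dat.pbA (D := D5) base card (by norm_num : Nat.Prime 5) (okc_of_okcb p5c0) p5c1 p5c2 p5c3
    p5c4
    p5c5
    p5c6 p5c7
    p5c8
    p5c9

end Cfsg.Agent.Mult.G24
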